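import Cfsg.Agent.LargeExtra.Basic
import Cfsg.Agent.SolvStruct.PGroupBasics
import Cfsg.Agent.S0206

/-!
# An involution centralizer which is a 2-group with Frattini subgroup of order two
-/

set_option autoImplicit false
set_option linter.style.haveILetI false
set_option linter.unusedSectionVars false

open Subgroup
open scoped commutatorElement

namespace Cfsg.Lib.LargeExtra.SmallCentralizer

variable {L : Type*} [Group L]

/-- The centralizer `R` of `z` and its elementwise facts. -/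
structure CZ (R : Subgroup L) (z : L) : Prop where
  ne : z ≠ 1
  zz : z * z = 1
  cen : ∀ g, g ∈ R ↔ Commute g z
  sq : ∀ x ∈ R, x * x = 1 ∨ x * x = z
  sqz : ∃ x ∈ R, x * x = z

/-- A central element of `R`. -/
def Cent (R : Subgroup L) (h : L) : Prop := h ∈ R ∧ ∀ x ∈ R, Commute h x

namespace CZ

variable {R : Subgroup L} {z : L} (h : CZ R z)
include h

theorem mem : z ∈ R := (h.cen z).mpr (Commute.refl z)

theorem central : Cent R z := ⟨h.mem, fun x hx => ((h.cen x).mp hx).symm⟩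

theorem comm {x y : L} (hx : x ∈ R) (hy : y ∈ R) : x * y = y * x ∨ x * y = z * (y * x) := by
  have key : ∀ w ∈ R, w * w ∈ zpowers z := fun w hw => (mem_zpowers_two h.zz).mpr (h.sq w hw)
  have hsx := key x hx
  have hsy := key y hy
  have hyc : Commute (y * y) (x⁻¹) := by
    rcases h.sq y hy with e | e <;> rw [e]
    exacts [Commute.one_left _, h.central.2 _ (inv_mem hx)]
  have hxc : Commute (x * x) (y * x * y) := by
    rcases h.sq x hx with e | e <;> rw [e]
    exacts [Commute.one_left _, h.central.2 _ (mul_mem (mul_mem hy hx) hy)]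
  have e : x * y * (y * x)⁻¹ = (x * y) * (x * y) * (y * y)⁻¹ * (x * x)⁻¹ := by
    calc x * y * (y * x)⁻¹ = x * y * x⁻¹ * y⁻¹ := by group
      _ = (x * y) * (x * y) * (y⁻¹ * (x⁻¹ * x⁻¹ * y⁻¹)) := by group
      _ = (x * y) * (x * y) * ((y * y)⁻¹ * (x * x)⁻¹) := by
          congr 1
          rw [show x⁻¹ * x⁻¹ = (x * x)⁻¹ by group]
          rcases h.sq x hx with e | e <;> rw [e]
          · group
          · have hc : Commute z⁻¹ y⁻¹ := (h.central.2 y hy).inv_inv
            rw [hc.eq]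
            group
      _ = _ := by group
  have hmem : x * y * (y * x)⁻¹ ∈ zpowers z := by
    rw [e]
    exact mul_mem (mul_mem (key _ (mul_mem hx hy)) (inv_mem hsy)) (inv_mem hsx)
  rcases (mem_zpowers_two h.zz).mp hmem with e | e
  · exact Or.inl (mul_inv_eq_one.mp e)
  · exact Or.inr (mul_inv_eq_iff_eq_mul.mp e)

theorem commute_div {t x y : L} (ht : t ∈ R) (hx : x ∈ R) (hy : y ∈ R) (hnx : ¬ Commute x t)
    (hny : ¬ Commute y t) : Commute (x * y⁻¹) t := by
  have ex : x * t = z * (t * x) := (h.comm hx ht).resolve_left hnx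
  have ey : y⁻¹ * t = z * (t * y⁻¹) := (h.comm (inv_mem hy) ht).resolve_left fun e => hny (by
    have : Commute y⁻¹ t := e
    simpa using this.inv_left)
  show x * y⁻¹ * t = t * (x * y⁻¹)
  calc x * y⁻¹ * t = x * (z * (t * y⁻¹)) := by rw [mul_assoc, ey]
    _ = z * (x * t) * y⁻¹ := by rw [← mul_assoc, ← (h.central.2 x hx).eq]; group
    _ = (z * z) * (t * x * y⁻¹) := by rw [ex]; group
    _ = t * (x * y⁻¹) := by rw [h.zz, one_mul]; group

end CZ

theorem mem_conj_cz {R : Subgroup L} {z : L} (h : CZ R z) (g w : L) (hw : Commute w (g * z * g⁻¹)) :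
    g⁻¹ * w * g ∈ R := by
  refine (h.cen _).mpr ?_
  show g⁻¹ * w * g * z = z * (g⁻¹ * w * g)
  calc g⁻¹ * w * g * z = g⁻¹ * (w * (g * z * g⁻¹)) * g := by group
    _ = g⁻¹ * ((g * z * g⁻¹) * w) * g := by rw [hw.eq]
    _ = z * (g⁻¹ * w * g) := by group

variable [Finite L] (R : Sylow 2 L) {z : L} (h : CZ (R : Subgroup L) z)
include h

theorem normalizer_le {n : L} (hn : n ∈ normalizer ((R : Subgroup L) : Set L)) : n ∈ (R : Subgroup L) := by
  obtain ⟨x, hx, hxz⟩ := h.sqz
  have hx' : n * x * n⁻¹ ∈ (R : Subgroup L) := (mem_normalizer_iff.mp hn x).mp hx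
  refine (h.cen n).mpr ?_
  rcases h.sq _ hx' with e | e
  · exfalso
    refine h.ne ?_
    rw [show (n * x * n⁻¹) * (n * x * n⁻¹) = n * (x * x) * n⁻¹ by group, hxz] at e
    exact conj_eq_one_iff.mp e
  · rw [show (n * x * n⁻¹) * (n * x * n⁻¹) = n * (x * x) * n⁻¹ by group, hxz] at e
    show n * z = z * n
    calc n * z = n * z * n⁻¹ * n := by group
      _ = z * n := by rw [e]

theorem central_unique {x g : L} (hx : Cent (R : Subgroup L) x) (hy : Cent (R : Subgroup L) (g⁻¹ * x * g)) :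
    g⁻¹ * x * g = x := by
  obtain ⟨n, hn, e⟩ := R.conj_eq_normalizer_conj_of_mem_centralizer x g
    (mem_centralizer_iff.mpr fun m hm => (hx.2 m hm).eq.symm)
    (mem_centralizer_iff.mpr fun m hm => (hy.2 m hm).eq.symm)
  rw [e]
  have := hx.2 n (normalizer_le R h hn)
  rw [mul_assoc, this.eq, inv_mul_cancel_left]

/-- Sylow inside a centralizer: a conjugate in the centralizer lands in the centralizer of `z`. -/
theorem exists_commuting_conj {b : L} (hbz : Commute b z) {w : L} (hw : Commute b w) (hw2 : w * w = 1) :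
    ∃ c k : L, Commute b c ∧ k⁻¹ * z * k ∈ (R : Subgroup L) ∧ k⁻¹ * (c * w * c⁻¹) * k ∈ (R : Subgroup L) := by
  have hzC : z ∈ centralizer ({b} : Set L) := mem_centralizer_singleton_iff.mpr hbz.eq.symm
  have hwC : w ∈ centralizer ({b} : Set L) := mem_centralizer_singleton_iff.mpr hw.eq.symm
  have hp : ∀ v : centralizer ({b} : Set L), v * v = 1 → IsPGroup 2 (zpowers v) := fun v hv q =>
    ⟨1, by
      obtain ⟨i, hi⟩ := mem_zpowers_iff.mp q.2
      refine Subtype.ext ?_
      rw [SubmonoidClass.coe_pow, ← hi, pow_one, pow_two, ← (Commute.refl v).mul_zpow, hv, one_zpow]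
      rfl⟩
  obtain ⟨S, hS⟩ := (hp ⟨z, hzC⟩ (Subtype.ext h.zz)).exists_le_sylow
  obtain ⟨T, hT⟩ := (hp ⟨w, hwC⟩ (Subtype.ext hw2)).exists_le_sylow
  obtain ⟨c, hc⟩ := MulAction.exists_smul_eq (centralizer ({b} : Set L)) T S
  have hcw : c * ⟨w, hwC⟩ * c⁻¹ ∈ (S : Subgroup (centralizer ({b} : Set L))) := by
    rw [← hc]
    exact ⟨⟨w, hwC⟩, hT (mem_zpowers _), rfl⟩
  obtain ⟨U, hU⟩ := ((S.2.map (centralizer ({b} : Set L)).subtype)).exists_le_sylow
  obtain ⟨k, hk⟩ := MulAction.exists_smul_eq L R U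
  have hmem : ∀ v ∈ (S : Subgroup (centralizer ({b} : Set L))), k⁻¹ * (v : L) * k ∈ (R : Subgroup L) := by
    intro v hv
    have hv' : (v : L) ∈ (U : Subgroup L) := hU ⟨v, hv, rfl⟩
    rw [← hk] at hv'
    obtain ⟨r, hr, e⟩ := hv'
    rw [← e]
    show k⁻¹ * (k * r * k⁻¹) * k ∈ _
    rw [show k⁻¹ * (k * r * k⁻¹) * k = r by group]
    exact hr
  exact ⟨c, k, (mem_centralizer_singleton_iff.mp c.2).symm, hmem _ (hS (mem_zpowers _)), hmem _ hcw⟩

theorem focal_top [IsSimpleGroup L] (hL : ¬ IsMulCommutative L) {D : Subgroup L}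
    (hD : ∀ a ∈ (R : Subgroup L), ∀ u : L, u * a * u⁻¹ ∈ (R : Subgroup L) → a⁻¹ * (u * a * u⁻¹) ∈ D) :
    (R : Subgroup L) ≤ D := by
  haveI : Fact (Nat.Prime 2) := ⟨Nat.prime_two⟩
  have hc : _root_.commutator L = ⊤ :=
    (Normal.eq_bot_or_eq_top inferInstance).resolve_left fun hb => hL ⟨⟨fun a b => by
      refine commutatorElement_eq_one_iff_mul_comm.mp ?_
      rw [← mem_bot, ← hb]
      exact commutator_mem_commutator (mem_top a) (mem_top b)⟩⟩
  have := commutator_inf_eq_focalSubgroup R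
  rw [hc, top_inf_eq] at this
  rw [this, focalSubgroup_def, closure_le]
  rintro g ⟨hg, x, hx, u, rfl⟩
  have hu : u * x⁻¹ * u⁻¹ ∈ (R : Subgroup L) := by
    have := mul_mem (inv_mem hx) hg
    rwa [commutatorElement_def, show x⁻¹ * (x * u * x⁻¹ * u⁻¹) = u * x⁻¹ * u⁻¹ by group] at this
  have := hD x⁻¹ (inv_mem hx) u hu
  rwa [inv_inv, show x * (u * x⁻¹ * u⁻¹) = ⁅x, u⁆ by rw [commutatorElement_def]; group] at this

theorem exists_conj_ne [IsSimpleGroup L] (hL : ¬ IsMulCommutative L) :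
    ∃ g : L, g * z * g⁻¹ ∈ (R : Subgroup L) ∧ g * z * g⁻¹ ≠ z := by
  by_contra hiso
  push Not at hiso
  have hsub : (R : Subgroup L) ≤ zpowers z := by
    refine focal_top R h hL fun a ha u hu => ?_
    have hz' : (u * z * u⁻¹) * (u * z * u⁻¹) = 1 := by
      rw [show u * z * u⁻¹ * (u * z * u⁻¹) = u * (z * z) * u⁻¹ by group, h.zz]; group
    have hcomm : Commute (u * a * u⁻¹) (u * z * u⁻¹) := by
      show u * a * u⁻¹ * (u * z * u⁻¹) = u * z * u⁻¹ * (u * a * u⁻¹)
      rw [show u * a * u⁻¹ * (u * z * u⁻¹) = u * (a * z) * u⁻¹ by group, ((h.cen a).mp ha).eq]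
      group
    obtain ⟨c, k, hc, hk1, hk2⟩ := exists_commuting_conj R h ((h.cen _).mp hu) hcomm hz'
    have e1 : k⁻¹ * z * k = z := by
      have := hiso k⁻¹ (by simpa using hk1)
      simpa using this
    have hkR : k ∈ (R : Subgroup L) := (h.cen k).mpr (by
      show k * z = z * k
      conv_lhs => rw [← e1]
      group)
    have hcu : c * u ∈ (R : Subgroup L) := by
      have h2 : c * (u * z * u⁻¹) * c⁻¹ ∈ (R : Subgroup L) := by
        have := mul_mem (mul_mem hkR hk2) (inv_mem hkR)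
        rwa [show k * (k⁻¹ * (c * (u * z * u⁻¹) * c⁻¹) * k) * k⁻¹ = c * (u * z * u⁻¹) * c⁻¹ by group] at this
      have h3 := hiso (c * u) (by rwa [show c * u * z * (c * u)⁻¹ = c * (u * z * u⁻¹) * c⁻¹ by group])
      exact (h.cen _).mpr (by
        show c * u * z = z * (c * u)
        calc c * u * z = c * u * z * (c * u)⁻¹ * (c * u) := by group
          _ = z * (c * u) := by rw [h3])
    have hb : u * a * u⁻¹ = (c * u) * a * (c * u)⁻¹ := by
      calc u * a * u⁻¹ = c * (u * a * u⁻¹) * c⁻¹ := by rw [← hc.eq]; group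
        _ = _ := by group
    rw [hb]
    rcases h.comm hcu ha with e | e <;> rw [e]
    · rw [show a⁻¹ * (a * (c * u) * (c * u)⁻¹) = 1 by group]; exact one_mem _
    · rw [show a⁻¹ * (z * (a * (c * u)) * (c * u)⁻¹) = a⁻¹ * (z * a) by group, (h.central.2 a ha).eq,
        inv_mul_cancel_left]
      exact mem_zpowers z
  obtain ⟨x, hx, hxz⟩ := h.sqz
  refine h.ne ?_
  rw [← hxz]
  rcases (mem_zpowers_two h.zz).mp (hsub hx) with e | e <;> rw [e]
  exacts [one_mul _, h.zz]

/-- The basic facts about a conjugate `t` of `z` in `R` other than `z`. -/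
theorem plane {t g : L} (htR : t ∈ (R : Subgroup L)) (htz : t ≠ z) (hg : g * z * g⁻¹ = t) :
    (∃ r ∈ (R : Subgroup L), ¬ Commute r t) ∧ (∀ a ∈ (R : Subgroup L), Commute a t → a * a = 1) ∧
      ∀ r ∈ (R : Subgroup L), ¬ Commute r t → ∀ a ∈ (R : Subgroup L), Commute a t → Commute a r →
        Cent (R : Subgroup L) a := by
  have hnc : ∃ r ∈ (R : Subgroup L), ¬ Commute r t := by
    by_contra hall
    push Not at hall
    have hct : Cent (R : Subgroup L) t := ⟨htR, fun x hx => (hall x hx).symm⟩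
    refine htz ?_
    have := central_unique R h (x := z) (g := g⁻¹) h.central (by rw [inv_inv, hg]; exact hct)
    rw [inv_inv, hg] at this
    exact this
  have hinv : ∀ a ∈ (R : Subgroup L), Commute a t → a * a = 1 := by
    intro a ha hat
    rcases h.sq a ha with e | e
    · exact e
    · exfalso
      have ha' : g⁻¹ * a * g ∈ (R : Subgroup L) := mem_conj_cz h g a (hg ▸ hat)
      have e' : g⁻¹ * a * g * (g⁻¹ * a * g) = g⁻¹ * z * g := by rw [← e]; group
      rcases h.sq _ ha' with e2 | e2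
      · rw [e'] at e2
        refine h.ne ?_
        calc z = g * (g⁻¹ * z * g) * g⁻¹ := by group
          _ = 1 := by rw [e2]; group
      · rw [e'] at e2
        refine htz ?_
        rw [← hg]
        calc g * z * g⁻¹ = g * (g⁻¹ * z * g) * g⁻¹ := by rw [e2]
          _ = z := by group
  refine ⟨hnc, hinv, fun r hr hrt a ha hat har => ⟨ha, fun x hx => ?_⟩⟩
  have hab : ∀ b ∈ (R : Subgroup L), Commute b t → Commute a b := fun b hb hbt => by
    have h1 := hinv a ha hat
    have h2 := hinv b hb hbt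
    have h3 := hinv (a * b) (mul_mem ha hb) (hat.mul_left hbt)
    show a * b = b * a
    calc a * b = (a * b)⁻¹ := (inv_eq_of_mul_eq_one_right h3).symm
      _ = b⁻¹ * a⁻¹ := mul_inv_rev a b
      _ = b * a := by rw [inv_eq_of_mul_eq_one_right h1, inv_eq_of_mul_eq_one_right h2]
  by_cases hxt : Commute x t
  · exact hab x hx hxt
  · have := hab (x * r⁻¹) (mul_mem hx (inv_mem hr)) (h.commute_div htR hx hr hxt hrt)
    simpa using this.mul_right har

/-- Involutions commuting with `t` are conjugate to central ones along the group of `z` and `t`. -/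
theorem move {t g : L} (htR : t ∈ (R : Subgroup L)) (htz : t ≠ z) (hg : g * z * g⁻¹ = t)
    {a : L} (ha : a ∈ (R : Subgroup L)) (hat : Commute a t) :
    ∃ x, Cent (R : Subgroup L) x ∧ a⁻¹ * x ∈ closure ({z, t} : Set L) ∧ ∃ u : L, u * a * u⁻¹ = x := by
  obtain ⟨⟨r, hr, hrt⟩, hinv, hcent⟩ := plane R h htR htz hg
  by_cases hca : Commute a r
  · exact ⟨a, hcent r hr hrt a ha hat hca, by rw [inv_mul_cancel]; exact one_mem _, 1, by group⟩
  have hzD : z ∈ closure ({z, t} : Set L) := subset_closure (by simp)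
  have htD : t ∈ closure ({z, t} : Set L) := subset_closure (by simp)
  have htt : t * t = 1 := hinv t htR (Commute.refl t)
  have hti : t⁻¹ = t := inv_eq_of_mul_eq_one_right htt
  set w := a * t with hwdef
  have hw : Cent (R : Subgroup L) w := by
    refine hcent r hr hrt w (mul_mem ha htR) (hat.mul_left (Commute.refl t)) ?_
    have := h.commute_div hr ha htR hca (fun e => hrt e.symm)
    rwa [hti] at this
  have haw : a = w * t := by rw [hwdef, mul_assoc, htt, mul_one]
  set t₂ := g⁻¹ * z * g with ht₂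
  have hzt : Commute z t := h.central.2 t htR
  have ht₂R : t₂ ∈ (R : Subgroup L) := mem_conj_cz h g z (hg.symm ▸ hzt)
  have ht₂z : t₂ ≠ z := fun e => htz (by
    rw [← hg]
    calc g * z * g⁻¹ = g * (g⁻¹ * z * g) * g⁻¹ := by rw [← ht₂, e]
      _ = z := by group)
  obtain ⟨⟨r₂, hr₂, hr₂t⟩, -, hcent₂⟩ := plane R h ht₂R ht₂z (g := g⁻¹) (by rw [inv_inv, ht₂])
  set w₂ := g⁻¹ * w * g with hw₂
  have hw₂R : w₂ ∈ (R : Subgroup L) := mem_conj_cz h g w (hg.symm ▸ hw.2 t htR)
  have hw₂t : Commute w₂ t₂ := by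
    show g⁻¹ * w * g * (g⁻¹ * z * g) = g⁻¹ * z * g * (g⁻¹ * w * g)
    rw [show g⁻¹ * w * g * (g⁻¹ * z * g) = g⁻¹ * (w * z) * g by group, (hw.2 z h.mem).eq]
    group
  by_cases hc₂ : Commute w₂ r₂
  · have hfix := central_unique R h (x := w) (g := g) hw (hcent₂ r₂ hr₂ hr₂t w₂ hw₂R hw₂t hc₂)
    refine ⟨w * z, ⟨mul_mem hw.1 h.mem, fun x hx => (hw.2 x hx).mul_left (h.central.2 x hx)⟩, ?_, g⁻¹, ?_⟩
    · rw [haw, show (w * t)⁻¹ * (w * z) = t⁻¹ * z by group]
      exact mul_mem (inv_mem htD) hzD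
    · rw [inv_inv, haw, ← hg, show g⁻¹ * (w * (g * z * g⁻¹)) * g = (g⁻¹ * w * g) * z by group, hfix]
  · have hwz : Cent (R : Subgroup L) (w * z) := ⟨mul_mem hw.1 h.mem, fun x hx => (hw.2 x hx).mul_left (h.central.2 x hx)⟩
    have h2 := h.commute_div hr₂ hw₂R ht₂R hc₂ (fun e => hr₂t e.symm)
    have ht₂i : t₂⁻¹ = t₂ := by
      rw [ht₂, show (g⁻¹ * z * g)⁻¹ = g⁻¹ * z⁻¹ * g by group, inv_eq_of_mul_eq_one_right h.zz]
    have e2 : w₂ * t₂ = g⁻¹ * (w * z) * g := by rw [hw₂, ht₂]; group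
    have hfix := central_unique R h (x := w * z) (g := g) hwz (by
      rw [← e2]
      refine hcent₂ r₂ hr₂ hr₂t _ (mul_mem hw₂R ht₂R) (hw₂t.mul_left (Commute.refl _)) ?_
      rwa [ht₂i] at h2)
    have hrtr : r * t * r⁻¹ = z * t := by
      rw [(h.comm hr htR).resolve_left hrt]; group
    refine ⟨w, hw, ?_, g⁻¹ * r, ?_⟩
    · rw [haw, show (w * t)⁻¹ * w = t⁻¹ by group]
      exact inv_mem htD
    · rw [haw, show g⁻¹ * r * (w * t) * (g⁻¹ * r)⁻¹ = g⁻¹ * ((r * w) * t * r⁻¹) * g by group, ← (hw.2 r hr).eq,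
        show w * r * t * r⁻¹ = w * (r * t * r⁻¹) by group, hrtr, ← hg,
        show g⁻¹ * (w * (z * (g * z * g⁻¹))) * g = g⁻¹ * (w * z) * g * z by group, hfix, mul_assoc, h.zz, mul_one]

theorem into_conj {y k : L} {B : Subgroup L} (hB : IsPGroup 2 B) (hBy : ∀ b ∈ B, Commute y b)
    (hk : ∀ x ∈ (R : Subgroup L), Commute y (k * x * k⁻¹)) :
    ∃ c, Commute y c ∧ ∀ b ∈ B, (c * k)⁻¹ * b * (c * k) ∈ (R : Subgroup L) := by
  haveI : Fact (Nat.Prime 2) := ⟨Nat.prime_two⟩
  set C := centralizer ({y} : Set L) with hC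
  have hBC : B ≤ C := fun b hb => mem_centralizer_singleton_iff.mpr (hBy b hb).eq.symm
  have hTC : ((k • R : Sylow 2 L) : Subgroup L) ≤ C := by
    rintro _ ⟨x, hx, rfl⟩
    exact mem_centralizer_singleton_iff.mpr (hk x hx).eq.symm
  obtain ⟨S, hS⟩ := (hB.of_equiv (subgroupOfEquivOfLe hBC).symm).exists_le_sylow
  obtain ⟨c, hc⟩ := MulAction.exists_smul_eq C ((k • R : Sylow 2 L).subtype hTC) S
  refine ⟨c, (mem_centralizer_singleton_iff.mp c.2).symm, fun b hb => ?_⟩
  have hb' : (⟨b, hBC hb⟩ : C) ∈ (S : Subgroup C) := hS (show (⟨b, hBC hb⟩ : C) ∈ B.subgroupOf C from hb)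
  rw [← hc] at hb'
  obtain ⟨⟨v, hvC⟩, hv, e⟩ := hb'
  obtain ⟨x, hx, e'⟩ : v ∈ ((k • R : Sylow 2 L) : Subgroup L) := hv
  have e1 : (c : L) * v * (c : L)⁻¹ = b := congrArg Subtype.val e
  rw [← e1, ← e']
  show ((c : L) * k)⁻¹ * ((c : L) * (k * x * k⁻¹) * (c : L)⁻¹) * ((c : L) * k) ∈ _
  rwa [show ((c : L) * k)⁻¹ * ((c : L) * (k * x * k⁻¹) * (c : L)⁻¹) * ((c : L) * k) = x by group]

theorem second_conj {t g y k x : L} (htR : t ∈ (R : Subgroup L)) (htz : t ≠ z) (hg : g * z * g⁻¹ = t)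
    (hyR : y ∈ (R : Subgroup L)) (hyy : y * y = 1) (hyt : ¬ Commute y t) (hx : Cent (R : Subgroup L) x)
    (hk : k * x * k⁻¹ = y) :
    ∃ t' m : L, m * z * m⁻¹ = t' ∧ t' ∈ (R : Subgroup L) ∧ t' ≠ z ∧ ¬ Commute t' t := by
  classical
  obtain ⟨⟨r, hr, hrt⟩, hinv, hcent⟩ := plane R h htR htz hg
  set B : Subgroup L := (R : Subgroup L) ⊓ centralizer ({y} : Set L) with hB
  have hmB : ∀ {v : L}, v ∈ B ↔ v ∈ (R : Subgroup L) ∧ Commute v y := fun {v} => by
    rw [hB, mem_inf, mem_centralizer_singleton_iff]; rfl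
  obtain ⟨c, hc, hcB⟩ := into_conj R h (B := B) (k := k) (y := y) (R.2.to_le inf_le_left)
    (fun b hb => (hmB.mp hb).2.symm) fun v hv => by
      rw [← hk]
      show k * x * k⁻¹ * (k * v * k⁻¹) = k * v * k⁻¹ * (k * x * k⁻¹)
      rw [show k * x * k⁻¹ * (k * v * k⁻¹) = k * (x * v) * k⁻¹ by group, (hx.2 v hv).eq]
      group
  set m := c * k with hm
  have hmx : m * x * m⁻¹ = y := by
    rw [hm, show c * k * x * (c * k)⁻¹ = c * (k * x * k⁻¹) * c⁻¹ by group, hk, ← hc.eq, mul_inv_cancel_right]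
  have hyx : y ≠ x := fun e => hyt (e ▸ hx.2 t htR)
  have hBinv : ∀ b ∈ B, ∀ b' ∈ B, Commute b b' := fun b hb b' hb' => by
    obtain ⟨hbR, hby⟩ := hmB.mp hb
    obtain ⟨hbR', hby'⟩ := hmB.mp hb'
    have key : ∀ v ∈ (R : Subgroup L), Commute v y → Commute v t → Cent (R : Subgroup L) v := fun v hv hvy hvt =>
      hcent y hyR hyt v hv hvt hvy
    have hcases : ∀ v ∈ (R : Subgroup L), Commute v y → Cent (R : Subgroup L) v ∨ Cent (R : Subgroup L) (v * y⁻¹) :=
      fun v hv hvy => by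
        by_cases hvt : Commute v t
        · exact Or.inl (key v hv hvy hvt)
        · exact Or.inr (key _ (mul_mem hv (inv_mem hyR)) (hvy.mul_left (Commute.refl y).inv_left)
            (h.commute_div htR hv hyR hvt hyt))
    rcases hcases b hbR hby with h1 | h1
    · exact h1.2 b' hbR'
    · rw [show b = b * y⁻¹ * y by group]
      exact (h1.2 b' hbR').mul_left hby'.symm
  obtain ⟨b, hb, hbz⟩ : ∃ b ∈ B, m⁻¹ * b * m = z := by
    by_contra hno
    push Not at hno
    let f : ↥(R : Subgroup L) → Bool × B := fun v =>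
      if hv : Commute (v : L) y then (false, ⟨v, hmB.mpr ⟨v.2, hv⟩⟩)
      else (true, ⟨(v : L) * t⁻¹, hmB.mpr ⟨mul_mem v.2 (inv_mem htR),
        h.commute_div hyR v.2 htR hv fun e => hyt e.symm⟩⟩)
    have hf : Function.Injective f := by
      intro u v e
      simp only [f] at e
      split_ifs at e with h1 h2 h3
      · exact Subtype.ext (congrArg (fun p : Bool × B => (p.2 : L)) e)
      · simp at e
      · simp at e
      · exact Subtype.ext (mul_right_cancel (congrArg (fun p : Bool × B => (p.2 : L)) e))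
    let φ : Bool × B → ↥(R : Subgroup L) := fun p =>
      ⟨(if p.1 then z else 1) * (m⁻¹ * (p.2 : L) * m), mul_mem (by split; exacts [h.mem, one_mem _]) (hcB _ p.2.2)⟩
    have hne : ∀ b b' : B, z * (m⁻¹ * (b : L) * m) ≠ m⁻¹ * (b' : L) * m := fun b b' e =>
      hno ((b' : L) * (b : L)⁻¹) (mul_mem b'.2 (inv_mem b.2)) (by
        calc m⁻¹ * ((b' : L) * (b : L)⁻¹) * m = (m⁻¹ * (b' : L) * m) * (m⁻¹ * (b : L) * m)⁻¹ := by group
          _ = z := by rw [← e]; group)
    have hφ : Function.Injective φ := by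
      rintro ⟨i, u⟩ ⟨j, v⟩ e
      have e' := congrArg Subtype.val e
      simp only [φ] at e'
      cases i <;> cases j <;> simp only [Bool.false_eq_true, if_false, if_true, one_mul] at e'
      · rw [Subtype.ext (mul_left_cancel (mul_right_cancel e'))]
      · exact absurd e'.symm (hne v u)
      · exact absurd e' (hne u v)
      · rw [Subtype.ext (mul_left_cancel (mul_right_cancel (mul_left_cancel e')))]
    have hsurj := (hφ.bijective_of_nat_card_le (Nat.card_le_card_of_injective f hf)).2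
    obtain ⟨⟨i, u⟩, hu⟩ := hsurj ⟨r, hr⟩
    obtain ⟨⟨j, v⟩, hv⟩ := hsurj ⟨t, htR⟩
    have hu' := congrArg Subtype.val hu
    have hv' := congrArg Subtype.val hv
    simp only [φ] at hu' hv'
    refine hrt ?_
    rw [← hu', ← hv']
    have hz : ∀ (i : Bool) (w : L), w ∈ (R : Subgroup L) → Commute (if i then z else 1) w := fun i w hw => by
      cases i
      exacts [Commute.one_left w, h.central.2 w hw]
    refine ((hz i _ (mul_mem (by split; exacts [h.mem, one_mem _]) (hcB _ v.2))).mul_left ?_)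
    refine (hz j _ (hcB _ u.2)).symm.mul_right ?_
    show m⁻¹ * (u : L) * m * (m⁻¹ * (v : L) * m) = m⁻¹ * (v : L) * m * (m⁻¹ * (u : L) * m)
    rw [show m⁻¹ * (u : L) * m * (m⁻¹ * (v : L) * m) = m⁻¹ * ((u : L) * v) * m by group, (hBinv u u.2 v v.2).eq]
    group
  obtain ⟨hbR, hby⟩ := hmB.mp hb
  have hbm : m * z * m⁻¹ = b := by rw [← hbz]; group
  have hbne : b ≠ z := fun e => by
    have hmR : m ∈ (R : Subgroup L) := (h.cen m).mpr (by
      show m * z = z * m
      rw [e] at hbm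
      calc m * z = m * z * m⁻¹ * m := by group
        _ = z * m := by rw [hbm])
    exact hyx (by rw [← hmx, ← (hx.2 m hmR).eq, mul_inv_cancel_right])
  refine ⟨b, m, hbm, hbR, hbne, fun hbt => hbne ?_⟩
  have := central_unique R h (x := z) (g := m⁻¹) h.central
    (by rw [inv_inv, hbm]; exact hcent y hyR hyt b hbR hbt hby)
  rwa [inv_inv, hbm] at this

theorem dihedral [IsSimpleGroup L] (hL : ¬ IsMulCommutative L) :
    Nonempty ((R : Subgroup L) ≃* DihedralGroup 4) := by
  obtain ⟨g, htR, htz⟩ := exists_conj_ne R h hL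
  set t := g * z * g⁻¹ with htdef
  obtain ⟨⟨r, hr, hrt⟩, hinv, -⟩ := plane R h htR htz htdef.symm
  have hfour : ∀ a ∈ (R : Subgroup L), a * a = z → ∀ u : L, u * a * u⁻¹ ∈ (R : Subgroup L) →
      a⁻¹ * (u * a * u⁻¹) ∈ zpowers z := by
    intro a ha hz u hu
    have e : u * a * u⁻¹ * (u * a * u⁻¹) = u * z * u⁻¹ := by rw [← hz]; group
    have huR : u ∈ (R : Subgroup L) := by
      rcases h.sq _ hu with e' | e' <;> rw [e] at e'
      · exact absurd (conj_eq_one_iff.mp e') h.ne
      · exact (h.cen u).mpr (by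
          show u * z = z * u
          calc u * z = u * z * u⁻¹ * u := by group
            _ = z * u := by rw [e'])
    rcases h.comm huR ha with e' | e' <;> rw [e']
    · rw [show a⁻¹ * (a * u * u⁻¹) = 1 by group]; exact one_mem _
    · rw [show a⁻¹ * (z * (a * u) * u⁻¹) = a⁻¹ * (z * a) by group, (h.central.2 a ha).eq, inv_mul_cancel_left]
      exact mem_zpowers z
  have hsame : ∀ {D : Subgroup L}, (∀ a ∈ (R : Subgroup L), a * a = 1 →
      ∃ x, Cent (R : Subgroup L) x ∧ a⁻¹ * x ∈ D ∧ ∃ u : L, u * a * u⁻¹ = x) → z ∈ D →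
      (R : Subgroup L) ≤ D := by
    intro D hD hzD
    refine focal_top R h hL fun a ha u hu => ?_
    rcases h.sq a ha with e | e
    · obtain ⟨x, hx, hxD, v, hv⟩ := hD a ha e
      obtain ⟨x', hx', hxD', v', hv'⟩ := hD _ hu (by
        rw [show u * a * u⁻¹ * (u * a * u⁻¹) = u * (a * a) * u⁻¹ by group, e]; group)
      have hxe := central_unique R h (x := x) (g := (v' * u * v⁻¹)⁻¹) hx (by
        rw [← hv, inv_inv, show v' * u * v⁻¹ * (v * a * v⁻¹) * (v' * u * v⁻¹)⁻¹ = v' * (u * a * u⁻¹) * v'⁻¹ by group,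
          hv']
        exact hx')
      rw [← hv, inv_inv, show v' * u * v⁻¹ * (v * a * v⁻¹) * (v' * u * v⁻¹)⁻¹ = v' * (u * a * u⁻¹) * v'⁻¹ by group,
        hv', hv] at hxe
      have := mul_mem hxD (inv_mem hxD')
      rwa [hxe, show a⁻¹ * x * ((u * a * u⁻¹)⁻¹ * x)⁻¹ = a⁻¹ * (u * a * u⁻¹) by group] at this
    · exact (zpowers_le.mpr hzD) (hfour a ha e u hu)
  by_cases hall : ∀ a ∈ (R : Subgroup L), a * a = 1 → Commute a t
  · exfalso
    refine hrt ?_
    have := hsame (D := closure ({z, t} : Set L)) (fun a ha e => move R h htR htz htdef.symm ha (hall a ha e))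
      (subset_closure (by simp)) hr
    have hle : closure ({z, t} : Set L) ≤ centralizer ({t} : Set L) := by
      rw [closure_le]
      rintro v (rfl | rfl) <;> rw [SetLike.mem_coe, mem_centralizer_singleton_iff]
      exact (h.central.2 t htR).eq
    exact mem_centralizer_singleton_iff.mp (hle this)
  push Not at hall
  obtain ⟨y, hyR, hyy, hyt, u, huR, hut⟩ : ∃ y ∈ (R : Subgroup L), y * y = 1 ∧ ¬ Commute y t ∧
      ∃ u : L, u * y * u⁻¹ ∈ (R : Subgroup L) ∧ Commute (u * y * u⁻¹) t := by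
    by_contra hno
    push Not at hno
    refine hrt ?_
    have hct : ∀ v, v ∈ centralizer ({t} : Set L) ↔ Commute v t := fun v => mem_centralizer_singleton_iff
    refine (hct r).mp (focal_top R h hL (D := centralizer ({t} : Set L)) (fun a ha u hu => (hct _).mpr ?_) hr)
    have hzt : Commute z t := h.central.2 t htR
    rcases h.sq a ha with e | e
    · by_cases hat : Commute a t
      · by_cases hbt : Commute (u * a * u⁻¹) t
        · exact hat.inv_left.mul_left hbt
        · exfalso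
          have := hno _ hu (by rw [show u * a * u⁻¹ * (u * a * u⁻¹) = u * (a * a) * u⁻¹ by group, e]; group)
            hbt u⁻¹ (by rw [show u⁻¹ * (u * a * u⁻¹) * u⁻¹⁻¹ = a by group]; exact ha)
          rw [show u⁻¹ * (u * a * u⁻¹) * u⁻¹⁻¹ = a by group] at this
          exact this hat
      · have hbt : ¬ Commute (u * a * u⁻¹) t := hno a ha e hat u hu
        have := h.commute_div htR (inv_mem ha) (inv_mem hu)
          (fun e' => hat (by simpa using e'.inv_left)) (fun e' => hbt (by simpa using e'.inv_left))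
        rwa [inv_inv] at this
    · rcases (mem_zpowers_two h.zz).mp (hfour a ha e u hu) with e' | e' <;> rw [e']
      exacts [Commute.one_left t, hzt]
  obtain ⟨x, hx, -, v, hv⟩ := move R h htR htz htdef.symm huR hut
  obtain ⟨t', m, hm, ht'R, ht'z, ht't⟩ := second_conj R h htR htz htdef.symm hyR hyy hyt hx
    (k := (v * u)⁻¹) (by rw [← hv]; group)
  obtain ⟨-, hinv', -⟩ := plane R h ht'R ht'z hm
  have htt : t * t = 1 := hinv t htR (Commute.refl t)
  have htt' : t' * t' = 1 := hinv' t' ht'R (Commute.refl t')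
  have hR : (R : Subgroup L) ≤ closure ({z, t, t'} : Set L) := by
    refine hsame (fun a ha e => ?_) (subset_closure (by simp))
    by_cases hat : Commute a t
    · obtain ⟨x, h1, h2, h3⟩ := move R h htR htz htdef.symm ha hat
      exact ⟨x, h1, closure_mono (Set.insert_subset_insert (by simp)) h2, h3⟩
    · have hat' : Commute a t' := by
        have hw := h.commute_div htR ha ht'R hat ht't
        have hww := hinv _ (mul_mem ha (inv_mem ht'R)) hw
        rw [inv_eq_of_mul_eq_one_right htt'] at hww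
        show a * t' = t' * a
        calc a * t' = (a * t')⁻¹ := (inv_eq_of_mul_eq_one_right hww).symm
          _ = t'⁻¹ * a⁻¹ := mul_inv_rev a t'
          _ = t' * a := by rw [inv_eq_of_mul_eq_one_right htt', inv_eq_of_mul_eq_one_right e]
      obtain ⟨x, h1, h2, h3⟩ := move R h ht'R ht'z hm ha hat'
      exact ⟨x, h1, closure_mono (Set.insert_subset_insert (by simp)) h2, h3⟩
  have hz2 : (t * t') * (t * t') = z := by
    have e := (h.comm htR ht'R).resolve_left fun e => ht't e.symm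
    calc t * t' * (t * t') = z * (t' * t) * (t * t') := by rw [← e]
      _ = z * (t' * (t * t) * t') := by group
      _ = z := by rw [htt, mul_one, htt', mul_one]
  have hReq : (R : Subgroup L) = closure ({t, t'} : Set L) := by
    refine le_antisymm (hR.trans ?_) ((closure_le _).mpr ?_)
    · rw [closure_le]
      have ht : t ∈ closure ({t, t'} : Set L) := subset_closure (by simp)
      have ht' : t' ∈ closure ({t, t'} : Set L) := subset_closure (by simp)
      rintro v (rfl | rfl | rfl)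
      exacts [hz2 ▸ mul_mem (mul_mem ht ht') (mul_mem ht ht'), ht, ht']
    · rintro v (rfl | rfl)
      exacts [htR, ht'R]
  have hord : ∀ v : L, v * v = 1 → v ≠ 1 → orderOf v = 2 := fun v h1 h2 => orderOf_eq_prime (by rw [pow_two, h1]) h2
  have hne : ∀ v : L, ¬ Commute v t → v ≠ 1 := fun v hv e => hv (e ▸ Commute.one_left t)
  have ht1 : t ≠ 1 := fun e => ht't (e ▸ Commute.one_right t')
  obtain ⟨e⟩ := Cfsg.Agent.S0206.result t t' (hord t htt ht1) (hord t' htt' (hne t' ht't))
    (fun e => ht't (e ▸ Commute.refl t'))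
  have ho : orderOf (t * t') = 4 := by
    haveI : Fact (Nat.Prime 2) := ⟨Nat.prime_two⟩
    refine orderOf_eq_prime_pow (p := 2) (n := 1) ?_ ?_
    · rw [pow_one, pow_two, hz2]; exact h.ne
    · rw [show (2 : ℕ) ^ (1 + 1) = 2 * 2 by norm_num, pow_mul, pow_two, pow_two, hz2, h.zz]
  rw [ho] at e
  exact ⟨(MulEquiv.subgroupCongr hReq).trans e⟩

omit h in
theorem cz_of_frattini (z : L) (hz : orderOf z = 2) (hR : (R : Subgroup L) = centralizer ({z} : Set L))
    (hΦ : (frattini ↥(R : Subgroup L)).map (R : Subgroup L).subtype = zpowers z) : CZ (R : Subgroup L) z := by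
  haveI : Fact (Nat.Prime 2) := ⟨Nat.prime_two⟩
  have hne : z ≠ 1 := fun e => by rw [e, orderOf_one] at hz; omega
  have hzz : z * z = 1 := by rw [← pow_two, ← hz, pow_orderOf_eq_one]
  have hsq : ∀ x ∈ (R : Subgroup L), x * x = 1 ∨ x * x = z := fun x hx => by
    refine (mem_zpowers_two hzz).mp (hΦ ▸ ⟨⟨x, hx⟩ * ⟨x, hx⟩, ?_, rfl⟩)
    have := Cfsg.Lib.PGroups.pow_mem_frattini R.2 (⟨x, hx⟩ : (R : Subgroup L))
    rwa [pow_two] at this
  refine ⟨hne, hzz, fun g => by rw [hR, mem_centralizer_singleton_iff]; rfl, hsq, ?_⟩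
  by_contra hno
  push Not at hno
  have hexp : ∀ y : (R : Subgroup L), y ^ 2 = 1 := fun y => Subtype.ext (by
    rw [SubmonoidClass.coe_pow, pow_two]; exact (hsq y y.2).resolve_right (hno y y.2))
  have hab : ∀ a b : (R : Subgroup L), a * b = b * a := fun a b => by
    have := hexp (a * b)
    rw [pow_two] at this
    calc a * b = (a * b)⁻¹ := (inv_eq_of_mul_eq_one_right this).symm
      _ = b⁻¹ * a⁻¹ := mul_inv_rev a b
      _ = b * a := by
        rw [inv_eq_of_mul_eq_one_right (a := a) (b := a) (by rw [← pow_two]; exact hexp a),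
          inv_eq_of_mul_eq_one_right (a := b) (b := b) (by rw [← pow_two]; exact hexp b)]
  rw [Cfsg.Lib.SolvStruct.frattini_eq_bot_of_elementary (p := 2) hexp hab, Subgroup.map_bot] at hΦ
  exact hne (zpowers_eq_bot.mp hΦ.symm)

end Cfsg.Lib.LargeExtra.SmallCentralizer
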